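import Groth.Agent.FibDimLib.Smooth
import Groth.Agent.FibDimLib.Formula
import Groth.Agent.FibDimLib.Retro
import Groth.Agent.CMFlatLib.Fibre
import Groth.Agent.CommAlgDim.CM
import Groth.Agent.TransLib.FieldCI
import Groth.Agent.CMFlatLib.Open
import Groth.Prelude.Def_EGA4b
import Groth.Prelude.Def_CAlg

/-!
# Openness of the locus of regular sequences in Cohen–Macaulay fibres
-/

set_option autoImplicit false
set_option linter.style.haveILetI false

universe u

open TensorProduct CategoryTheory AlgebraicGeometry TopologicalSpace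

namespace FibRegSeqLib

theorem nat_add_le_nat_add {x y : WithBot ℕ∞} (a : ℕ) :
    (a : WithBot ℕ∞) + x ≤ (a : WithBot ℕ∞) + y ↔ x ≤ y := by
  induction x using WithBot.recBotCoe with
  | bot => simp
  | coe x =>
    induction y using WithBot.recBotCoe with
    | bot => simp only [WithBot.add_bot, le_bot_iff, WithBot.add_eq_bot, WithBot.natCast_ne_bot, false_or]
    | coe y =>
      show (((a : ℕ∞) + x : ℕ∞) : WithBot ℕ∞) ≤ (((a : ℕ∞) + y : ℕ∞) : WithBot ℕ∞) ↔ _
      rw [WithBot.coe_le_coe, WithBot.coe_le_coe, ENat.add_le_add_iff_left (ENat.coe_ne_top a)]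

theorem add_le_iff {x : WithBot ℕ∞} {c n : ℕ} (hc : c ≤ n) :
    x + (c : WithBot ℕ∞) ≤ n ↔ x ≤ ((n - c : ℕ) : WithBot ℕ∞) := by
  induction x using WithBot.recBotCoe with
  | bot => simp
  | coe a =>
    induction a using ENat.recTopCoe with
    | top =>
      constructor
      · intro h
        have h' := WithBot.coe_le_coe.mp (show ((⊤ + (c : ℕ∞) : ℕ∞) : WithBot ℕ∞) ≤ ((n : ℕ∞) : WithBot ℕ∞) from h)
        simp at h'
      · intro h
        have h' := WithBot.coe_le_coe.mp (show ((⊤ : ℕ∞) : WithBot ℕ∞) ≤ (((n - c : ℕ) : ℕ∞) : WithBot ℕ∞) from h)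
        simp at h'
    | coe a =>
      show ((a : ℕ) : WithBot ℕ∞) + (c : WithBot ℕ∞) ≤ n ↔ ((a : ℕ) : WithBot ℕ∞) ≤ ((n - c : ℕ) : WithBot ℕ∞)
      norm_cast
      omega

/-- The local ring of the fibre of a quotient. -/
theorem fibLocRing_quotient {R S : Type u} [CommRing R] [CommRing S] [Algebra R S] (f : List S)
    (q' : Ideal (S ⧸ Ideal.ofList f)) [q'.IsPrime] :
    Nonempty (EGA4.FibLocRing R (S ⧸ Ideal.ofList f) q' ≃+*
      EGA4.FibLocRing R S (q'.comap (Ideal.Quotient.mk (Ideal.ofList f))) ⧸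
        Ideal.ofList (f.map (algebraMap S (EGA4.FibLocRing R S (q'.comap (Ideal.Quotient.mk (Ideal.ofList f))))))) := by
  let J := Ideal.ofList f
  let q := q'.comap (Ideal.Quotient.mk J)
  let L := Localization.AtPrime q
  let L' := Localization.AtPrime q'
  let g : L →+* L' := Localization.localRingHom q q' (Ideal.Quotient.mk J) rfl
  have hgS : ∀ s : S, g (algebraMap S L s) = algebraMap _ L' (Ideal.Quotient.mk J s) :=
    Localization.localRingHom_to_map q q' _ rfl
  have hg : Function.Surjective g := by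
    intro y
    obtain ⟨⟨a, b⟩, rfl⟩ := IsLocalization.mk'_surjective q'.primeCompl (S := L') y
    obtain ⟨a', rfl⟩ := Ideal.Quotient.mk_surjective a
    obtain ⟨b', hb'⟩ := Ideal.Quotient.mk_surjective (b : S ⧸ J)
    refine ⟨IsLocalization.mk' L a' (⟨b', fun h => b.2 (hb' ▸ (Ideal.mem_comap.mp h))⟩ : q.primeCompl), ?_⟩
    rw [Localization.localRingHom_mk']
    congr 1
    exact Subtype.ext hb'
  have hker : RingHom.ker g = J.map (algebraMap S L) := by
    refine le_antisymm (fun x hx => ?_) ?_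
    · obtain ⟨⟨a, b⟩, rfl⟩ := IsLocalization.mk'_surjective q.primeCompl (S := L) x
      rw [RingHom.mem_ker, Localization.localRingHom_mk', IsLocalization.mk'_eq_zero_iff] at hx
      obtain ⟨⟨c, hc⟩, hca⟩ := hx
      obtain ⟨c', rfl⟩ := Ideal.Quotient.mk_surjective c
      have hJ : c' * a ∈ J := Ideal.Quotient.eq_zero_iff_mem.mp (by rw [map_mul]; exact hca)
      have hu : IsUnit (algebraMap S L c') :=
        IsLocalization.map_units L (⟨c', fun h => hc (Ideal.mem_comap.mp h)⟩ : q.primeCompl)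
      have h1 : algebraMap S L a ∈ J.map (algebraMap S L) := by
        have h2 := Ideal.mem_map_of_mem (algebraMap S L) hJ
        rw [map_mul] at h2
        exact (Ideal.unit_mul_mem_iff_mem _ hu).mp h2
      have h3 : IsLocalization.mk' L a b * algebraMap S L (b : S) = algebraMap S L a := IsLocalization.mk'_spec _ _ _
      rw [← h3] at h1
      exact (Ideal.mul_unit_mem_iff_mem _ (IsLocalization.map_units L b)).mp h1
    · rw [Ideal.map_le_iff_le_comap]
      intro s hs
      rw [Ideal.mem_comap, RingHom.mem_ker, hgS, Ideal.Quotient.eq_zero_iff_mem.mpr hs, map_zero]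
  let p := q.comap (algebraMap R S)
  let P := p.map (algebraMap R L)
  let P' := (q'.comap (algebraMap R (S ⧸ J))).map (algebraMap R L')
  have hgR : g.comp (algebraMap R L) = algebraMap R L' := by
    ext r
    rw [RingHom.comp_apply, IsScalarTower.algebraMap_apply R S L, hgS, IsScalarTower.algebraMap_apply R (S ⧸ J) L']
    rfl
  have hP : P.map g = P' := by
    rw [Ideal.map_map, hgR]
    rfl
  let h : L →+* L' ⧸ P' := (Ideal.Quotient.mk P').comp g
  have hh : RingHom.ker h = P ⊔ J.map (algebraMap S L) := by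
    rw [← RingHom.comap_ker, Ideal.mk_ker, ← hP, Ideal.comap_map_of_surjective g hg, ← RingHom.ker_eq_comap_bot, hker]
  have hlist : Ideal.ofList (f.map (algebraMap S (L ⧸ P))) = (J.map (algebraMap S L)).map (Ideal.Quotient.mk P) := by
    rw [Ideal.map_map, ← Ideal.map_ofList]
    rfl
  exact ⟨(RingHom.quotientKerEquivOfSurjective (f := h) (Ideal.Quotient.mk_surjective.comp hg)).symm.trans
    ((Ideal.quotEquivOfEq hh).trans ((DoubleQuot.quotQuotEquivQuotSup P (J.map (algebraMap S L))).symm.trans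
      (Ideal.quotEquivOfEq hlist.symm)))⟩

theorem mem_minimalPrimes_of_component {A : Type u} [CommRing A] {g : PrimeSpectrum A}
    (hg : closure {g} ∈ irreducibleComponents (PrimeSpectrum A)) : g.asIdeal ∈ minimalPrimes A := by
  refine ⟨⟨g.2, bot_le⟩, fun P hP hle => ?_⟩
  let x : PrimeSpectrum A := ⟨P, hP.1⟩
  have hxg : x ⤳ g := (PrimeSpectrum.le_iff_specializes _ _).mp hle
  have hsub : closure ({g} : Set (PrimeSpectrum A)) ⊆ closure {x} :=
    closure_minimal (Set.singleton_subset_iff.mpr hxg.mem_closure) isClosed_closure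
  have hgx : g ⤳ x := specializes_iff_mem_closure.mpr (hg.2 isIrreducible_singleton.closure hsub (subset_closure rfl))
  exact ((PrimeSpectrum.le_iff_specializes _ _).mpr hgx : g ≤ x)

/-- A finite type algebra over a field with equidimensional spectrum has constant local dimension. -/
theorem localDim_of_equidim (k : Type u) [Field k] {A : Type u} [CommRing A] [Algebra k A] [Algebra.FiniteType k A]
    (d : ℕ) (heq : ∀ P ∈ minimalPrimes A, ringKrullDim (A ⧸ P) = (d : WithBot ℕ∞)) (p : PrimeSpectrum A) :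
    FlatMor.localDim (PrimeSpectrum A) p = (d : WithBot ℕ∞) := by
  let q : Spec (CommRingCat.of A) ⟶ Spec (CommRingCat.of k) := Spec.map (CommRingCat.ofHom (algebraMap k A))
  have : LocallyOfFiniteType q := by
    rw [HasRingHomProperty.Spec_iff (P := @LocallyOfFiniteType)]
    exact RingHom.finiteType_algebraMap.mpr inferInstance
  obtain ⟨g, hg, -, hd⟩ := FibDimLib.exists_generic_localDim q (p : Spec (CommRingCat.of A))
  exact hd.trans ((FibDimLib.topologicalKrullDim_closure_prime (g : PrimeSpectrum A)).trans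
    (heq _ (mem_minimalPrimes_of_component hg)))

/-- The map of fibres induced by a quotient. -/
theorem exists_fiber_map {R S : Type u} [CommRing R] [CommRing S] [Algebra R S] (p : Ideal R) [p.IsPrime]
    (J : Ideal S) :
    ∃ π : p.Fiber S →+* p.Fiber (S ⧸ J), Function.Surjective π ∧
      π.comp (Algebra.TensorProduct.includeRight : S →ₐ[R] p.Fiber S).toRingHom =
        (Algebra.TensorProduct.includeRight : S ⧸ J →ₐ[R] p.Fiber (S ⧸ J)).toRingHom.comp (Ideal.Quotient.mk J) := by
  let π : p.ResidueField ⊗[R] S →ₐ[R] p.ResidueField ⊗[R] (S ⧸ J) :=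
    Algebra.TensorProduct.map (AlgHom.id R p.ResidueField) (Ideal.Quotient.mkₐ R J)
  refine ⟨π.toRingHom, TensorProduct.map_surjective Function.surjective_id Ideal.Quotient.mk_surjective, ?_⟩
  ext s
  exact Algebra.TensorProduct.map_tmul _ _ _ _

variable {R S : Type u} [CommRing R] [CommRing S] [Algebra R S] [Algebra.FiniteType R S]

/-- Regularity of the sequence in the fibre through the fibre dimension of its zero locus. -/
theorem isRegular_iff_fibreDimAt (d : ℕ)
    (hCM : ∀ p : PrimeSpectrum R, LocCoh.IsCohenMacaulayRing (p.asIdeal.Fiber S))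
    (heq : ∀ p : PrimeSpectrum R, ∀ P ∈ minimalPrimes (p.asIdeal.Fiber S),
      ringKrullDim (p.asIdeal.Fiber S ⧸ P) = (d : WithBot ℕ∞))
    (f : List S) (x : PrimeSpectrum (S ⧸ Ideal.ofList f)) :
    RingTheory.Sequence.IsRegular (EGA4.FibLocRing R S (x.asIdeal.comap (Ideal.Quotient.mk (Ideal.ofList f))))
        (f.map (algebraMap S (EGA4.FibLocRing R S (x.asIdeal.comap (Ideal.Quotient.mk (Ideal.ofList f)))))) ↔
      FlatMor.fibreDimAt (Spec.map (CommRingCat.ofHom (algebraMap R (S ⧸ Ideal.ofList f)))) x +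
        (f.length : WithBot ℕ∞) ≤ d := by
  let J := Ideal.ofList f
  let q := x.asIdeal.comap (Ideal.Quotient.mk J)
  let pp := PrimeSpectrum.comap (algebraMap R (S ⧸ J)) x
  obtain ⟨Q', hQ', hdim⟩ := FibDimLib.fibreDimAt_specMap R (S ⧸ J) x
  rw [← hdim]
  obtain ⟨π, hπ, hπi⟩ := exists_fiber_map pp.asIdeal J
  let Q : PrimeSpectrum (pp.asIdeal.Fiber S) := PrimeSpectrum.comap π Q'
  have hQ : Q.asIdeal.comap (Algebra.TensorProduct.includeRight : S →ₐ[R] pp.asIdeal.Fiber S).toRingHom = q := by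
    show (Q'.asIdeal.comap π).comap _ = x.asIdeal.comap _
    rw [← hQ', Ideal.comap_comap, Ideal.comap_comap, hπi]
  obtain ⟨θ', -⟩ := CMFlatLib.exists_fibreLocal_equiv pp.asIdeal Q'.asIdeal x.asIdeal hQ'
  obtain ⟨θ, -⟩ := CMFlatLib.exists_fibreLocal_equiv pp.asIdeal Q.asIdeal q hQ
  obtain ⟨e⟩ := fibLocRing_quotient (R := R) f x.asIdeal
  haveI := hCM pp
  haveI := LocCoh.IsCohenMacaulayRing.isCohenMacaulayLocalRing_localization Q.asIdeal
  let O := EGA4.FibLocRing R S q
  let θ₀ : O ≃+* Localization.AtPrime Q.asIdeal := θ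
  haveI : IsNoetherianRing O := isNoetherianRing_of_ringEquiv _ θ₀.symm
  haveI : IsLocalRing O := θ₀.symm.isLocalRing
  have hO : CommAlgDim.IsCM O :=
    TransLib.isCM_of_ringEquiv (R := Localization.AtPrime Q.asIdeal) θ₀.symm ((CMFlatLib.isCohenMacaulayLocalRing_iff_isCM _).1 inferInstance)
  let θ'' : EGA4.FibLocRing R (S ⧸ J) x.asIdeal ≃+* Localization.AtPrime Q'.asIdeal := θ'
  obtain ⟨a, ha, -⟩ := FibDimLib.ringKrullDim_quotient_eq_trdeg pp.asIdeal.ResidueField Q.asIdeal
  have hquot : ringKrullDim (pp.asIdeal.Fiber (S ⧸ J) ⧸ Q'.asIdeal) = (a : WithBot ℕ∞) := by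
    rw [← ha]
    have hk : RingHom.ker ((Ideal.Quotient.mk Q'.asIdeal).comp π) = Q.asIdeal := by
      rw [← RingHom.comap_ker, Ideal.mk_ker]
      rfl
    exact (ringKrullDim_eq_of_ringEquiv ((Ideal.quotEquivOfEq hk.symm).trans
      (RingHom.quotientKerEquivOfSurjective (Ideal.Quotient.mk_surjective.comp hπ)))).symm
  have h1 : FlatMor.localDim (PrimeSpectrum (pp.asIdeal.Fiber (S ⧸ J))) Q' =
      (a : WithBot ℕ∞) + ringKrullDim (O ⧸ Ideal.ofList (f.map (algebraMap S O))) := by
    rw [FibDimLib.localDim_eq_dim_add pp.asIdeal.ResidueField, hquot,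
      ← ringKrullDim_eq_of_ringEquiv θ'',
      ringKrullDim_eq_of_ringEquiv (S := O ⧸ Ideal.ofList (f.map (algebraMap S O))) e]
  have h2 : (d : WithBot ℕ∞) = (a : WithBot ℕ∞) + ringKrullDim O := by
    rw [← localDim_of_equidim pp.asIdeal.ResidueField d (heq pp) Q, FibDimLib.localDim_eq_dim_add pp.asIdeal.ResidueField,
      ha, ← ringKrullDim_eq_of_ringEquiv θ₀]
  rw [h1, h2, add_assoc, nat_add_le_nat_add]
  have hm : ∀ r ∈ f.map (algebraMap S O), r ∈ IsLocalRing.maximalIdeal O := by
    intro r hr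
    obtain ⟨s, hs, rfl⟩ := List.mem_map.1 hr
    have hs' : s ∈ q := by
      show Ideal.Quotient.mk J s ∈ x.asIdeal
      rw [Ideal.Quotient.eq_zero_iff_mem.mpr (Ideal.subset_span (show s ∈ {r | r ∈ f} from hs))]
      exact zero_mem _
    rw [IsScalarTower.algebraMap_apply S (Localization.AtPrime q) O,
      ← IsLocalRing.map_maximalIdeal_of_surjective (algebraMap (Localization.AtPrime q) O)
        Ideal.Quotient.mk_surjective]
    exact Ideal.mem_map_of_mem _ ((IsLocalization.AtPrime.to_map_mem_maximal_iff _ q s).mpr hs')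
  constructor
  · intro h
    rw [← ringKrullDim_add_length_eq_ringKrullDim_of_isRegular (f.map (algebraMap S O)) h, List.length_map]
  · intro h
    exact CommAlgDim.isRegular_of_dim hO hm (by rwa [List.length_map])

/-- The regular locus of a sequence in Cohen–Macaulay fibres is open in its zero locus. -/
theorem exists_isOpen (d : ℕ)
    (hCM : ∀ p : PrimeSpectrum R, LocCoh.IsCohenMacaulayRing (p.asIdeal.Fiber S))
    (heq : ∀ p : PrimeSpectrum R, ∀ P ∈ minimalPrimes (p.asIdeal.Fiber S),
      ringKrullDim (p.asIdeal.Fiber S ⧸ P) = (d : WithBot ℕ∞))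
    (f : List S) :
    ∃ U : Set (PrimeSpectrum S), IsOpen U ∧ ∀ q : PrimeSpectrum S, Ideal.ofList f ≤ q.asIdeal →
      (q ∈ U ↔ RingTheory.Sequence.IsRegular (EGA4.FibLocRing R S q.asIdeal)
        (f.map (algebraMap S (EGA4.FibLocRing R S q.asIdeal)))) := by
  let J := Ideal.ofList f
  let g := Spec.map (CommRingCat.ofHom (algebraMap R (S ⧸ J)))
  haveI : LocallyOfFiniteType g := by
    rw [HasRingHomProperty.Spec_iff (P := @LocallyOfFiniteType)]
    exact RingHom.finiteType_algebraMap.mpr inferInstance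
  let V : Set (PrimeSpectrum (S ⧸ J)) :=
    {x | FlatMor.fibreDimAt g x + (f.length : WithBot ℕ∞) ≤ d}
  have hV : IsOpen V := by
    rcases Nat.lt_or_ge d f.length with hlt | hle
    · convert isOpen_empty
      refine Set.eq_empty_iff_forall_notMem.mpr fun x hx => ?_
      have h0 : (f.length : WithBot ℕ∞) ≤ FlatMor.fibreDimAt g x + (f.length : WithBot ℕ∞) :=
        le_add_of_nonneg_left (FibDimLib.localDim_nonneg _)
      have := h0.trans hx
      norm_cast at this
      omega
    · have h := FibDimLib.isOpen_fibreDimAt_le g ((d - f.length : ℕ) : WithBot ℕ∞)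
      have e : V = {x : PrimeSpectrum (S ⧸ J) | FlatMor.fibreDimAt g x ≤ ((d - f.length : ℕ) : WithBot ℕ∞)} := by
        ext x
        exact add_le_iff hle
      rw [e]
      exact h
  obtain ⟨U, hU, hUV⟩ := (PrimeSpectrum.isClosedEmbedding_comap_of_surjective _ (Ideal.Quotient.mk J)
    Ideal.Quotient.mk_surjective).isInducing.isOpen_iff.mp hV
  refine ⟨U, hU, fun q hq => ?_⟩
  obtain ⟨x, rfl⟩ : q ∈ Set.range (PrimeSpectrum.comap (Ideal.Quotient.mk J)) := by
    rw [range_comap_of_surjective _ _ Ideal.Quotient.mk_surjective, Ideal.mk_ker]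
    exact hq
  refine Iff.trans ?_ (isRegular_iff_fibreDimAt d hCM heq f x).symm
  rw [← Set.mem_preimage, hUV]
  exact Iff.rfl

end FibRegSeqLib
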